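import Mathlib
import Cfsg.Agent.Lib.Comput.NetModel

/-! generated by tools/cgt -/

set_option autoImplicit false
set_option maxRecDepth 100000
set_option Elab.async false

namespace CfsgLib.LieModel.G22.P

open CfsgLib.Comput

noncomputable def n0 : Net :=
  Net.cons 1 0x1111010141004000
  (Net.cons 2 0x202020210021000
  (Net.cons 4 0x8000800000000
  (Net.cons 8 0x30000000000000
  (Net.cons 16 0x681f0000ef80
  (Net.cons 8 0x6d006d00000000
  (Net.cons 4 0x70f070f0e070e06
  (Net.cons 2 0x203131232133200
  (Net.cons 1 0x1115151145005000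
  (Net.nil)))))))))

noncomputable def n1 : Net :=
  Net.cons 1 0x105410100400
  (Net.cons 2 0x20211002020020
  (Net.cons 4 0x8010000000000
  (Net.cons 8 0x800000
  (Net.cons 16 0x200000008000
  (Net.cons 8 0x5f001000ff0000
  (Net.cons 4 0x507090402020408
  (Net.cons 2 0x1203313012120230
  (Net.cons 1 0x115410101400
  (Net.nil)))))))))

noncomputable def n2 : Net :=
  Net.cons 1 0x555011144140
  (Net.cons 2 0x20001000200000
  (Net.cons 32 0x7fff4000
  (Net.cons 8 0x200010002000b8
  (Net.cons 4 0x5000a0005000000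
  (Net.cons 2 0x232013102312121
  (Net.cons 1 0x5555011114140
  (Net.nil)))))))

noncomputable def n3 : Net :=
  Net.cons 1 0x1044104400004444
  (Net.cons 2 0x300030000200000
  (Net.cons 4 0x400040000000400
  (Net.cons 16 0x8000
  (Net.cons 32 0x8000
  (Net.cons 16 0x7fff00008000
  (Net.cons 8 0x40004000200040
  (Net.cons 4 0x600060005000f00
  (Net.cons 2 0x322032202310022
  (Net.cons 1 0x1044104400004444
  (Net.nil))))))))))

noncomputable def n4 : Net :=
  Net.cons 1 0x1004544554454040
  (Net.cons 2 0x200000010000000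
  (Net.cons 4 0x8000004040400
  (Net.cons 16 0x100000000000
  (Net.cons 32 0x10000000
  (Net.cons 16 0x100000000400
  (Net.cons 8 0x800af00eb0040
  (Net.cons 4 0x20c0a0a0e0e0408
  (Net.cons 2 0x1300233333332000
  (Net.cons 1 0x1014544554454150
  (Net.nil))))))))))

noncomputable def n5 : Net :=
  Net.cons 1 0x1455514404405054
  (Net.cons 2 0x302200301020
  (Net.cons 4 0x20d060808000000
  (Net.cons 8 0x40008000ef0000
  (Net.cons 16 0x800000000
  (Net.cons 32 0x80000
  (Net.cons 16 0x38d10000ef00
  (Net.cons 8 0x4e009600ff0040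
  (Net.cons 4 0x5070d020e020208
  (Net.cons 2 0x1230001013102022
  (Net.cons 1 0x1550451511455150
  (Net.nil)))))))))))

noncomputable def n7 : Net :=
  Net.cons 1 0x105410100400
  (Net.cons 2 0x20211002020020
  (Net.cons 4 0x8010000000000
  (Net.cons 8 0x800000
  (Net.cons 16 0x200000008000
  (Net.cons 8 0x5f001000ff0000
  (Net.cons 4 0x507090402020408
  (Net.cons 2 0x1203313012120230
  (Net.cons 1 0x115410101400
  (Net.nil)))))))))

noncomputable def n8 : Net :=
  Net.cons 1 0x454404040404404
  (Net.cons 2 0x101111101200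
  (Net.cons 4 0x400000101010800
  (Net.cons 8 0x10000100000000
  (Net.cons 16 0x10000000000
  (Net.cons 32 0x1000000
  (Net.cons 16 0x110000001000
  (Net.cons 8 0x5000ee00fe0080
  (Net.cons 4 0x30a000809000c04
  (Net.cons 2 0x23111010113010
  (Net.cons 1 0x1045415050414514
  (Net.nil)))))))))))

noncomputable def n10 : Net :=
  Net.cons 1 0x4440044100450
  (Net.cons 2 0x1011201020101100
  (Net.cons 4 0x404000000000400
  (Net.cons 8 0x40004000000000
  (Net.cons 16 0x400000000000
  (Net.cons 32 0x40000000
  (Net.cons 16 0x404000008000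
  (Net.cons 8 0x7f00c0003f0040
  (Net.cons 4 0x5080b0303030508
  (Net.cons 2 0x1320010202010320
  (Net.cons 1 0x1455411554511440
  (Net.nil)))))))))))

noncomputable def n12 : Net :=
  Net.cons 1 0x101101000441400
  (Net.cons 2 0x220220210201200
  (Net.cons 4 0x208000000080800
  (Net.cons 8 0x80000
  (Net.cons 16 0x8000
  (Net.cons 32 0x8000
  (Net.cons 16 0x200000008800
  (Net.cons 8 0x5f005f00480080
  (Net.cons 4 0x5050d0d03030c00
  (Net.cons 2 0x1210212102010000
  (Net.cons 1 0x1010010115410500
  (Net.nil)))))))))))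

noncomputable def n14 : Net :=
  Net.cons 1 0x101101010545540
  (Net.cons 2 0x202020203100100
  (Net.cons 4 0x80809000400
  (Net.cons 8 0x8000800000000
  (Net.cons 16 0x80000000000
  (Net.cons 32 0x8000000
  (Net.cons 16 0x80800000000
  (Net.cons 8 0x7f00ff00100040
  (Net.cons 4 0x80a0a0b040500
  (Net.cons 2 0x303121213302320
  (Net.cons 1 0x101101011545540
  (Net.nil)))))))))))

noncomputable def n15 : Net :=
  Net.cons 1 0x1010010105410500
  (Net.cons 2 0x200202013100000
  (Net.cons 4 0x80800000800
  (Net.cons 8 0x80000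
  (Net.cons 16 0x8000
  (Net.cons 32 0x8000
  (Net.cons 16 0x200000008800
  (Net.cons 8 0x5f005f00180080
  (Net.cons 4 0x70d0505060e0c00
  (Net.cons 2 0x321321201311200
  (Net.cons 1 0x101101001441400
  (Net.nil)))))))))))

noncomputable def W : List Net := [n0, n1, n2, n3, n4, n5, n5.rev, n7, n8, n8.rev, n10, n10.rev, n12, n12.rev, n14, n15, n15.rev]

theorem W_ok : allL (Net.ok 63) W = true := by decide +kernel

end CfsgLib.LieModel.G22.P
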