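import Mathlib
import Cfsg.Agent.Lib.Comput.Check3
import Cfsg.Agent.Lib.LieModel.G22.P.Data

/-! generated by tools/cgt -/

set_option autoImplicit false
set_option maxRecDepth 100000
set_option Elab.async false

namespace CfsgLib.LieModel.G22.P

open CfsgLib.Comput

def R4_0 : RepC := ⟨16, 1, [],
  []⟩
def R4_1 : RepC := ⟨17, 1, [],
  []⟩
def R4_2 : RepC := ⟨0x1111, 1, [],
  []⟩
def S4_0 : GenC := ⟨17, [],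
  [(0, 0, 0, 2, 0), (0, 1, 0, 0, 0), (0, 2, 0, 3, 0), (0, 3, 0, 1, 0)], 0⟩
def L4 : Level := ⟨0x0, 0x18000, [], 1, 7, 0, 4, [R4_0, R4_1, R4_2], [S4_0]⟩
def X4 : Ext := [(15, 17, 0)]

def R3_0 : RepC := ⟨15, 1, [(17, 16)],
  [(7, 3, [1])]⟩
def S3_0 : GenC := ⟨15, [(17, 16)],
  [(0, 0, 0, 1, 0), (0, 1, 0, 0, 0)], 0⟩
def L3 : Level := ⟨0x18000, 0x1f000, [17], 4, 5, 0, 2, [R3_0], [S3_0]⟩
def X3 : Ext := [(12, 0, 17), (13, 13, 0)]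

def R2_0 : RepC := ⟨0xa0a, 1, [(15, 15), (17, 17)],
  [(30, 2, [1, 2])]⟩
def R2_1 : RepC := ⟨9, 2, [(17, 17)],
  [(9, 3, [1])]⟩
def S2_0 : GenC := ⟨10, [(16, 16)],
  [(0, 0, 15, 2, 15), (0, 2, 0, 0, 0), (15, 2, 0, 1, 15), (0, 1, 0, 2, 0)], 0⟩
def L2 : Level := ⟨0x1f000, 0x1ff80, [15, 17], 8, 3, 0, 4, [R2_0, R2_1], [S2_0]⟩
def X2 : Ext := [(8, 10, 0), (7, 0, 0x90f), (10, 0, 0x911), (11, 11, 0)]

def R1_0 : RepC := ⟨0x707, 1, [(0xa0a0f1111, 0xa0a0f1111), (17, 17), (0xa11, 0x91111)],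
  [(29, 3, [1, 2, 3]), (4, 1, [1])]⟩
def R1_1 : RepC := ⟨6, 4, [(0xf10, 0xf1111), (0xf1111, 0xf11)],
  [(30, 2, [1, 2])]⟩
def S1_0 : GenC := ⟨7, [(15, 0xf10)],
  [(0, 0, 0xa0a, 2, 0xa0a11), (0, 2, 0, 0, 0), (0xa0a, 2, 0, 1, 0xa0a10), (10, 2, 10, 2, 0x911), (0, 1, 0, 2, 0)], 1⟩
def L1 : Level := ⟨0x1ff80, 0x1fff0, [10, 15, 17], 32, 1, 0, 6, [R1_0, R1_1], [S1_0]⟩
def X1 : Ext := [(5, 7, 0), (4, 0, 0xa0f11)]

def R0_0 : RepC := ⟨0x403, 6, [(0xa0a0f1111, 0xa0f10), (0x910, 16), (16, 0xa1111)],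
  [(29, 3, [1, 2, 3]), (4, 1, [1])]⟩
def R0_1 : RepC := ⟨0x30103, 24, [(0xa1111, 0x91111), (0x90f10, 0xf11)],
  [(30, 2, [1, 2])]⟩
def R0_2 : RepC := ⟨0x301030103, 32, [(0x60a1111, 0x60a1111), (0xa0f10, 0xa0f10)],
  [(19, 2, [1, 2])]⟩
def S0_0 : GenC := ⟨3, [(0xa11, 0xa11), (17, 0x91111)],
  [(0, 0, 0x707, 1, 9), (0x707, 1, 0, 0, 10), (7, 1, 16, 2, 0xa0a0f1111), (0, 1, 0, 1, 0x7070a0a10), (0, 2, 0x907, 1, 0xf1111), (6, 2, 11, 3, 0xa0a0f11), (0x707, 2, 0x707, 2, 0x1111), (0, 3, 0xa07, 2, 0xf11), (6, 3, 6, 3, 0x7070a0a11)], 3⟩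
def L0 : Level := ⟨0x1fff0, 0x1ffff, [7, 10, 15, 17], 192, 0, 0, 63, [R0_0, R0_1, R0_2], [S0_0]⟩
def X0 : Ext := [(0, 0, 0xa07090f10), (1, 0, 0x90f), (3, 0, 0x7070a0a10)]

def top : List ℕ := [1, 2, 3, 4]
def gs : List ℕ := [3, 7, 10, 15, 17]
def XD : Ext := [(4, 0, 0x3010304020403040103), (5, 0, 0x3010301030402010302040103020103), (6, 6, 0), (7, 0, 0x30203), (8, 0, 0x708070806), (9, 9, 0), (10, 0, 0x705060506), (11, 11, 0), (12, 0, 0xa0a0b09), (13, 13, 0), (14, 0, 0xa08), (15, 0, 0xf0d0f), (16, 16, 0)]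
def MX : Level.MaxC := [[(0x707, [9])], [(0x707, [10, 0x7070910])], [(0x707, [0x810, 0x707090f])]]

/-- all the equations of the certificate -/
structure Eqs {G : Type*} [Group G] (g : ℕ → G) : Prop where
  l4 : AllHold g L4.eqns
  x4 : AllHold g X4.eqns
  l3 : AllHold g L3.eqns
  x3 : AllHold g X3.eqns
  l2 : AllHold g L2.eqns
  x2 : AllHold g X2.eqns
  l1 : AllHold g L1.eqns
  x1 : AllHold g X1.eqns
  l0 : AllHold g L0.eqns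
  x0 : AllHold g X0.eqns
  xd : AllHold g XD.eqns
  mx : AllHold g (L0.maxEqns MX)

end CfsgLib.LieModel.G22.P
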